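import Groth.Agent.Lib.QuadSubfield28.Main
import Groth.Agent.Lib.FunFld.GenusZero
import Groth.Agent.Lib.FunFld.Embedding
import Groth.Agent.Lib.FunFld.Conseq
import Groth.Agent.Lib.FunFld.LinSeries

/-!
# Two index two subfields: the Castelnuovo–Severi inequality and its case of equality
-/

set_option autoImplicit false
set_option linter.style.haveILetI false
set_option linter.unusedSectionVars false
set_option synthInstance.maxHeartbeats 200000

namespace GrothLib.TwoCovers28

open _root_.FunFld IntermediateField WithZero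
open GrothLib.FunFld

universe u

variable {k K : Type u} [Field k] [IsAlgClosed k] [Field K] [Algebra k K]

theorem places_infinite (h : IsFG k K) : (Set.univ : Set (Place k K)).Infinite := by
  obtain ⟨x, hx, -⟩ := id h
  have hex : ∀ c : k, ∃ P : Place k K, 0 < P.ord (x - algebraMap k K c) := fun c =>
    IsFG.exists_zero h (by
      have := hx.aeval (Polynomial.X - Polynomial.C c) (by simp) (by simp)
      simpa using this)
  choose Z hZ using hex
  have hinj : Function.Injective Z := by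
    intro a b hab
    by_contra hne
    have hlt : ∀ c, val (Z c) (x - algebraMap k K c) < 1 := fun c => by
      refine (val_lt_one_iff (Z c) fun h0 => ?_).2 (hZ c)
      have := hZ c
      rw [h0, ord_zero] at this
      exact lt_irrefl _ this
    have h1 := hlt a
    have h2 := hlt b
    rw [← hab] at h2
    have h3 := ((val (Z a)).map_sub _ _).trans_lt (max_lt h1 h2)
    rw [sub_sub_sub_cancel_left, ← map_sub, val_const (Z a) (sub_ne_zero.2 (Ne.symm hne))] at h3
    exact lt_irrefl _ h3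
  exact (Set.infinite_range_of_injective hinj).mono (Set.subset_univ _)

/-- A proper subfield does not contain all functions of a small degree. -/
theorem exists_small_function (h : IsFunctionField k K) {M : IntermediateField k K} (hM : M ≠ ⊤)
    (F : Finset (Place k K)) :
    ∃ (B : Divisor k K) (y : K), 0 ≤ B ∧ B.deg = (genus k K : ℤ) + 1 ∧ (∀ P ∈ F, B P = 0) ∧
      y ∈ _root_.FunFld.L B ∧ y ∉ M := by
  classical
  have hfg : IsFG k K := h.1
  set g := genus k K
  -- places in distinct fibres over `M`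
  suffices H : ∃ Qs : Fin (g + 1) → Place k K, Function.Injective Qs ∧ (∀ i, Qs i ∉ F) ∧
      ∀ y : K, y ≠ 0 → y ∈ M → Transcendental k y →
        ¬ y ∈ _root_.FunFld.L (∑ i, Finsupp.single (Qs i) 1) by
    obtain ⟨Qs, hinj, hF, hout⟩ := H
    set B : Divisor k K := ∑ i, Finsupp.single (Qs i) (1 : ℤ) with hB
    have hB0 : 0 ≤ B := Finset.sum_nonneg fun i _ => Finsupp.single_nonneg.2 zero_le_one
    have hBd : B.deg = (g : ℤ) + 1 := by
      rw [hB, deg_sum]
      simp only [deg_single, IsFG.deg_eq_one hfg]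
      simp
    have hl : 2 ≤ ell B := by
      obtain ⟨C, hC⟩ := exists_isCanonical h
      have := riemann_roch' h hC B
      omega
    haveI := IsFG.finite_L hfg B
    obtain ⟨y, hyB, hyt⟩ : ∃ y ∈ _root_.FunFld.L B, Transcendental k y := by
      by_contra hno
      push Not at hno
      have hle : _root_.FunFld.L B ≤ Submodule.span k {(1 : K)} := fun x hx => by
        obtain ⟨c, hc⟩ := h.2 x (not_not.1 (hno x hx))
        rw [← hc, Algebra.algebraMap_eq_smul_one]
        exact Submodule.smul_mem _ _ (Submodule.mem_span_singleton_self _)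
      have h9 : Module.finrank k (_root_.FunFld.L B) ≤ Module.finrank k (Submodule.span k {(1 : K)}) :=
        Submodule.finrank_mono hle
      rw [finrank_span_singleton one_ne_zero] at h9
      simp only [ell] at hl
      omega
    refine ⟨B, y, hB0, hBd, fun P hP => ?_, hyB, fun hyM => ?_⟩
    · rw [hB, Finsupp.finsetSum_apply]
      exact Finset.sum_eq_zero fun i _ => Finsupp.single_eq_of_ne fun e => hF i (e ▸ hP)
    · exact hout y (fun e => hyt (e ▸ isAlgebraic_zero)) hyM hyt hyB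
  by_cases hMt : ∃ x ∈ M, Transcendental k x
  swap
  · obtain ⟨s, hs⟩ := ((places_infinite hfg).sdiff F.finite_toSet).exists_subset_card_eq (g + 1)
    refine ⟨fun i => (s.equivFinOfCardEq hs.2).symm i, fun a b e => (s.equivFinOfCardEq hs.2).symm.injective
      (Subtype.ext e), fun i => (hs.1 ((s.equivFinOfCardEq hs.2).symm i).2).2, fun y _ hyM hyt _ => hMt ⟨y, hyM, hyt⟩⟩
  obtain ⟨hMF, hMfin⟩ := isFunctionField_intermediateField h M hMt
  haveI := hMfin
  have hMfg : IsFG k M := hMF.1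
  have h2 : 2 ≤ Module.finrank M K := by
    have hpos : 0 < Module.finrank M K := Module.finrank_pos
    by_contra hlt
    refine hM (eq_top_iff.2 fun w _ => ?_)
    obtain ⟨c, hc⟩ := (finrank_eq_one_iff_of_nonzero' (1 : K) one_ne_zero).1
      (by omega : Module.finrank M K = 1) w
    rw [← hc, Algebra.smul_def, mul_one]
    exact c.2
  choose b e hepos hbe using fun Q : Place k K => exists_isOverWith (K := M) Q
  -- greedy choice
  have hgreedy : ∀ n : ℕ, ∃ Qs : Fin n → Place k K, (∀ i, Qs i ∉ F) ∧ Function.Injective fun i => b (Qs i) := by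
    intro n
    induction n with
    | zero => exact ⟨Fin.elim0, fun i => i.elim0, fun i => i.elim0⟩
    | succ n ih =>
      obtain ⟨Qs, hF, hinj⟩ := ih
      have hbad : ({Q | Q ∈ F} ∪ ⋃ i, {Q : Place k K | IsOver Q (b (Qs i))}).Finite :=
        F.finite_toSet.union (Set.finite_iUnion fun i => (sum_ramIdx (K' := K) hMfg (b (Qs i))).1)
      obtain ⟨Q, -, hQ⟩ := ((places_infinite hfg).sdiff hbad).nonempty
      refine ⟨Fin.cons Q Qs, Fin.cases (fun hh => hQ (Or.inl hh)) hF, ?_⟩
      have hcomp : (fun i => b ((Fin.cons Q Qs : Fin (n + 1) → Place k K) i)) = Fin.cons (b Q) (fun i => b (Qs i)) := by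
        funext i; refine Fin.cases ?_ ?_ i <;> simp
      rw [hcomp, Fin.cons_injective_iff]
      refine ⟨fun ⟨i, hi⟩ => hQ (Or.inr (Set.mem_iUnion.2 ⟨i, ?_⟩)), hinj⟩
      exact ⟨e Q, (show b (Qs i) = b Q from hi) ▸ hbe Q⟩
  obtain ⟨Qs, hF, hinj⟩ := hgreedy (g + 1)
  refine ⟨Qs, fun a a' hh => hinj (congrArg b hh), hF, fun y hy0 hyM hyt hyB => ?_⟩
  set m : M := ⟨y, hyM⟩ with hm
  have hmt : Transcendental k m := fun ha => hyt (ha.algHom M.val)
  obtain ⟨p, hp⟩ := IsFG.exists_pole hMfg hmt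
  have hBle : ∀ Q : Place k K, (∑ i, Finsupp.single (Qs i) (1 : ℤ)) Q ≤ 1 ∧
      (0 < (∑ i, Finsupp.single (Qs i) (1 : ℤ)) Q → ∃ i, Qs i = Q) := fun Q => by
    rw [Finsupp.finsetSum_apply]
    simp only [Finsupp.single_apply]
    rw [Finset.sum_boole]
    have hsub : (Finset.univ.filter fun i => Qs i = Q).card ≤ 1 := Finset.card_le_one.2 fun i hi j hj => by
      simp only [Finset.mem_filter, Finset.mem_univ, true_and] at hi hj
      exact hinj (congrArg b (hi.trans hj.symm))
    refine ⟨by exact_mod_cast hsub, fun hpos => ?_⟩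
    obtain ⟨i, hi⟩ := Finset.card_pos.1 (by exact_mod_cast hpos)
    exact ⟨i, (Finset.mem_filter.1 hi).2⟩
  obtain ⟨hfin, hsum⟩ := sum_ramIdx (K' := K) hMfg p
  have hover : ∀ Q : Place k K, IsOver Q p → ramIdx Q p = 1 ∧ ∃ i, Qs i = Q := by
    intro Q hQ
    obtain ⟨e', he'⟩ := hQ
    have hord : Q.ord y = e' * p.ord m := ord_of_isOverWith he' m
    have hl := (mem_L_iff_ord hy0).1 hyB Q
    have he'pos : (0 : ℤ) < e' := by exact_mod_cast pos_of_isOverWith he'
    obtain ⟨hle, hmem⟩ := hBle Q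
    have hneg : Q.ord y ≤ -(e' : ℤ) := by rw [hord]; nlinarith
    refine ⟨?_, hmem (by omega)⟩
    rw [ramIdx_eq he']
    omega
  have hone : ∀ Q ∈ hfin.toFinset, ramIdx Q p * Q.deg = 1 := fun Q hQ => by
    rw [(hover Q (hfin.mem_toFinset.1 hQ)).1, IsFG.deg_eq_one hfg]
  have hs := hsum hfin.toFinset fun Q => hfin.mem_toFinset
  rw [Finset.sum_congr rfl hone, Finset.sum_const, smul_eq_mul, mul_one, IsFG.deg_eq_one hMfg, mul_one] at hs
  obtain ⟨Q, hQ, Q', hQ', hne⟩ := Finset.one_lt_card.1 (show 1 < hfin.toFinset.card by omega)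
  rw [Set.Finite.mem_toFinset] at hQ hQ'
  obtain ⟨-, i, rfl⟩ := hover Q hQ
  obtain ⟨-, j, rfl⟩ := hover Q' hQ'
  obtain ⟨e₁, h₁⟩ := hQ
  obtain ⟨e₂, h₂⟩ := hQ'
  refine hne (congrArg Qs (hinj ?_))
  exact ((isOverWith_unique (hbe _) h₁).1).trans ((isOverWith_unique (hbe _) h₂).1).symm

variable {K₁ K₂ : Type u} [Field K₁] [Field K₂] [Algebra k K₁] [Algebra k K₂] [Algebra K₁ K] [Algebra K₂ K]
  [IsScalarTower k K₁ K] [IsScalarTower k K₂ K] [FiniteDimensional K₁ K] [FiniteDimensional K₂ K]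

theorem algebraMap_mem_L_conorm (h : IsFG k K₁) {A : Divisor k K₁} {a : K₁} (ha : a ∈ _root_.FunFld.L A) :
    algebraMap K₁ K a ∈ _root_.FunFld.L (conorm K A) := by
  refine (DiffLattice.mem_L_conorm_iff (K' := K) h).2 fun P Q hQ => ?_
  rw [show val Q (algebraMap K₁ K a) = val P a ^ ramIdx Q P from ramIdx_spec hQ a]
  refine (pow_le_pow_left' (ha P) _).trans_eq ?_
  rw [← exp_nsmul]
  simp

omit [IsAlgClosed k] [FiniteDimensional K₁ K] in
/-- Sections from below times an element outside the subfield are independent of those sections. -/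
theorem two_mul_ell_le_finrank (h : IsFG k K₁) {y : K} (hy : ∀ a : K₁, algebraMap K₁ K a ≠ y)
    (A : Divisor k K₁) (W : Submodule k K) [Module.Finite k W]
    (h1 : ∀ a ∈ _root_.FunFld.L A, algebraMap K₁ K a ∈ W)
    (h2 : ∀ a ∈ _root_.FunFld.L A, algebraMap K₁ K a * y ∈ W) : 2 * ell A ≤ Module.finrank k W := by
  haveI := IsFG.finite_L h A
  let f : _root_.FunFld.L A × _root_.FunFld.L A →ₗ[k] W :=
    LinearMap.codRestrict W
      (((IsScalarTower.toAlgHom k K₁ K).toLinearMap.comp (_root_.FunFld.L A).subtype).coprod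
        ((LinearMap.mulRight k y).comp ((IsScalarTower.toAlgHom k K₁ K).toLinearMap.comp (_root_.FunFld.L A).subtype)))
      fun p => add_mem (h1 _ p.1.2) (h2 _ p.2.2)
  have hf : Function.Injective f := by
    refine (injective_iff_map_eq_zero f).2 fun p hp => ?_
    have h3 : algebraMap K₁ K p.1.1 + algebraMap K₁ K p.2.1 * y = 0 := congrArg Subtype.val hp
    by_cases hb : p.2.1 = 0
    · rw [hb, map_zero, zero_mul, add_zero, map_eq_zero] at h3
      exact Prod.ext (Subtype.ext h3) (Subtype.ext hb)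
    · refine absurd ?_ (hy (-p.1.1 / p.2.1))
      rw [map_div₀, map_neg, div_eq_iff ((_root_.map_ne_zero _).2 hb)]
      linear_combination -h3
  have := LinearMap.finrank_le_finrank_of_injective hf
  rw [Module.finrank_prod] at this
  show 2 * Module.finrank k (_root_.FunFld.L A) ≤ _
  omega

/-- Functions with equal constant terms at two places. -/
def sameAt (Q Q' : Place k K) (n : ℤ) : Subalgebra k K where
  carrier := {z | ∃ c : k, val Q (z - algebraMap k K c) ≤ exp (-n) ∧ val Q' (z - algebraMap k K c) ≤ exp (-n) ∧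
    val Q z ≤ 1 ∧ val Q' z ≤ 1}
  mul_mem' := by
    rintro a b ⟨c, hc, hc', ha, ha'⟩ ⟨d, hd, hd', hb, hb'⟩
    have key : ∀ R : Place k K, val R (a - algebraMap k K c) ≤ exp (-n) → val R (b - algebraMap k K d) ≤ exp (-n) →
        val R b ≤ 1 → val R (a * b - algebraMap k K (c * d)) ≤ exp (-n) := fun R h1 h2 h3 => by
      rw [show a * b - algebraMap k K (c * d) =
        (a - algebraMap k K c) * b + algebraMap k K c * (b - algebraMap k K d) by rw [map_mul]; ring]
      refine ((val R).map_add _ _).trans (max_le ?_ ?_) <;> rw [map_mul]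
      · exact (mul_le_of_le_one_right' h3).trans h1
      · exact (mul_le_of_le_one_left' (val_le_one_of_const R c)).trans h2
    exact ⟨c * d, key Q hc hd hb, key Q' hc' hd' hb',
      by rw [map_mul]; exact mul_le_one' ha hb, by rw [map_mul]; exact mul_le_one' ha' hb'⟩
  add_mem' := by
    rintro a b ⟨c, hc, hc', ha, ha'⟩ ⟨d, hd, hd', hb, hb'⟩
    refine ⟨c + d, ?_, ?_, ((val Q).map_add _ _).trans (max_le ha hb), ((val Q').map_add _ _).trans (max_le ha' hb')⟩
    · rw [map_add, add_sub_add_comm]; exact ((val Q).map_add _ _).trans (max_le hc hd)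
    · rw [map_add, add_sub_add_comm]; exact ((val Q').map_add _ _).trans (max_le hc' hd')
  algebraMap_mem' r := ⟨r, by simp, by simp, val_le_one_of_const Q r, val_le_one_of_const Q' r⟩

/-- A function from below that is regular at both points. -/
theorem algebraMap_mem_sameAt (h : IsFG k K₁) {Q Q' : Place k K} {p : Place k K₁} {e e' : ℕ} {n : ℕ}
    (he : IsOverWith Q p e) (he' : IsOverWith Q' p e') (hn : n ≤ e) (hn' : n ≤ e') {a : K₁} (ha : val p a ≤ 1) :
    algebraMap K₁ K a ∈ sameAt Q Q' (n : ℤ) := by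
  obtain ⟨c, hc⟩ := exists_residue h p ha
  rw [← exp_zero, ← le_exp_sub_one_iff] at hc
  have key : ∀ (R : Place k K) (m : ℕ), IsOverWith R p m → n ≤ m →
      val R (algebraMap K₁ K a - algebraMap k K c) ≤ exp (-(n : ℤ)) ∧ val R (algebraMap K₁ K a) ≤ 1 := fun R m hR hm => by
    refine ⟨?_, (hR a).trans_le (pow_le_one₀ zero_le ha)⟩
    rw [IsScalarTower.algebraMap_apply k K₁ K, ← map_sub]
    refine ((hR _).trans_le (pow_le_pow_left₀ zero_le hc m)).trans ?_
    rw [← exp_nsmul, exp_le_exp]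
    simp only [zero_sub, smul_neg, nsmul_eq_mul, mul_one, neg_le_neg_iff]
    exact_mod_cast hm
  exact ⟨c, (key Q e he hn).1, (key Q' e' he' hn').1, (key Q e he hn).2, (key Q' e' he' hn').2⟩

theorem genus_bound (hK : IsFunctionField k K) (h₁ : IsFunctionField k K₁) (h₂ : IsFunctionField k K₂)
    (d₁ : Module.finrank K₁ K = 2) (d₂ : Module.finrank K₂ K = 2) (hne : ¬ ∀ b : K₂, algebraMap K₂ K b ∈ Set.range (algebraMap K₁ K)) :
    genus k K ≤ 2 * genus k K₁ + 2 * genus k K₂ + 1 ∧
      ∀ (Q Q' : Place k K) (p : Place k K₁) (q : Place k K₂) (e e' f f' : ℕ),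
        IsOverWith Q p e → IsOverWith Q' p e' → IsOverWith Q q f → IsOverWith Q' q f' →
        (Q ≠ Q' ∨ (2 ≤ e ∧ 2 ≤ e' ∧ 2 ≤ f ∧ 2 ≤ f')) → genus k K ≤ 2 * genus k K₁ + 2 * genus k K₂ := by
  classical
  have hfg : IsFG k K := hK.1
  have hfg₁ : IsFG k K₁ := h₁.1
  have hfg₂ : IsFG k K₂ := h₂.1
  let M : IntermediateField k K₂ := (IsScalarTower.toAlgHom k K₁ K).fieldRange.comap (IsScalarTower.toAlgHom k K₂ K)
  have hMtop : M ≠ ⊤ := fun htop => hne fun b => by
    have : b ∈ M := htop ▸ trivial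
    exact this
  set m : ℕ := genus k K + 2 * genus k K₁ + 1 with hm
  -- the count
  have count : ∀ (p : Finset (Place k K₁)) (q : Finset (Place k K₂)),
      ∃ (D : Divisor k K) (n : ℕ), (ell D : ℤ) = 2 * m + 2 * genus k K₂ + 3 - genus k K ∧ (n : ℤ) = m + 1 - genus k K₁ ∧
        2 * (genus k K : ℤ) + 1 ≤ D.deg ∧
        (∀ W : Submodule k K, W ≤ _root_.FunFld.L D →
          (∀ (a : K₁), (∀ P ∈ p, val P a ≤ 1) → algebraMap K₁ K a ∈ _root_.FunFld.L D → algebraMap K₁ K a ∈ W) →
          (∀ (a : K₁) (y : K₂), (∀ P ∈ p, val P a ≤ 1) → (∀ P ∈ q, val P y ≤ 1) →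
            algebraMap K₁ K a * algebraMap K₂ K y ∈ _root_.FunFld.L D → algebraMap K₁ K a * algebraMap K₂ K y ∈ W) →
          2 * n ≤ Module.finrank k W) ∧
        ∀ R : Place k K, (∃ P ∈ p, IsOver R P) → (∃ P ∈ q, IsOver R P) → D R = 0 := by
    intro p q
    obtain ⟨p₀, -, hp₀⟩ := ((places_infinite hfg₁).sdiff p.finite_toSet).nonempty
    obtain ⟨B, y, hB0, hBd, hBq, hyB, hyM⟩ := exists_small_function h₂ hMtop q
    set A : Divisor k K₁ := Finsupp.single p₀ (m : ℤ) with hA
    have hA0 : 0 ≤ A := Finsupp.single_nonneg.2 (Int.natCast_nonneg m)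
    have hAp : ∀ P ∈ p, A P = 0 := fun P hP => Finsupp.single_eq_of_ne fun e => hp₀ (e ▸ hP)
    have hAd : A.deg = m := by rw [hA, deg_single, IsFG.deg_eq_one hfg₁]; simp
    have hdeg : (conorm K A + conorm K B).deg = 2 * (m : ℤ) + 2 * genus k K₂ + 2 := by
      rw [deg_add, deg_conorm hfg₁, deg_conorm hfg₂, d₁, d₂, hAd, hBd]; push_cast; ring
    have hlA := ell_eq_of_deg_ge h₁ (D := A) (by rw [hAd]; omega)
    have hlD := ell_eq_of_deg_ge hK (D := conorm K A + conorm K B) (by rw [hdeg]; omega)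
    have hA' : 0 ≤ conorm K A := fun R => by
      obtain ⟨P, e, -, he⟩ := exists_isOverWith (K := K₁) R
      rw [conorm_apply hfg₁ he]; exact mul_nonneg (Int.natCast_nonneg e) (hA0 P)
    have hB' : 0 ≤ conorm K B := fun R => by
      obtain ⟨P, e, -, he⟩ := exists_isOverWith (K := K₂) R
      rw [conorm_apply hfg₂ he]; exact mul_nonneg (Int.natCast_nonneg e) (hB0 P)
    refine ⟨conorm K A + conorm K B, ell A, by rw [hlD, hdeg]; ring, by rw [hlA, hAd], by rw [hdeg]; omega,
      fun W hWD h1 h2 => ?_, ?_⟩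
    · haveI := IsFG.finite_L hfg (conorm K A + conorm K B)
      haveI : Module.Finite k W := Module.Finite.of_injective (Submodule.inclusion hWD) (Submodule.inclusion_injective hWD)
      have hreg : ∀ a ∈ _root_.FunFld.L A, ∀ P ∈ p, val P a ≤ 1 := fun a ha P hP => by
        have := ha P; rwa [hAp P hP, exp_zero] at this
      refine two_mul_ell_le_finrank hfg₁ (y := algebraMap K₂ K y) (fun a ha => hyM ⟨a, ha⟩) A W
        (fun a ha => h1 a (hreg a ha) (L_mono (le_add_of_nonneg_right hB') (algebraMap_mem_L_conorm hfg₁ ha)))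
        fun a ha => h2 a y (hreg a ha) (fun P hP => by have := hyB P; rwa [hBq P hP, exp_zero] at this) ?_
      intro R
      show val R (algebraMap K₁ K a * algebraMap K₂ K y) ≤ _
      rw [map_mul, Finsupp.add_apply, exp_add]
      exact mul_le_mul' (algebraMap_mem_L_conorm hfg₁ ha R) (algebraMap_mem_L_conorm hfg₂ hyB R)
    · rintro R ⟨P, hP, e, he⟩ ⟨P', hP', e', he'⟩
      rw [Finsupp.add_apply, conorm_apply hfg₁ he, conorm_apply hfg₂ he', hAp P hP, hBq P' hP']
      ring
  refine ⟨?_, fun Q Q' p q e e' f f' he he' hf hf' hor => ?_⟩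
  · obtain ⟨D, n, hl, hn, -, hW, -⟩ := count ∅ ∅
    have h : 2 * n ≤ ell D := hW (_root_.FunFld.L D) le_rfl (fun _ _ h => h) fun _ _ _ _ h => h
    omega
  obtain ⟨D, n, hl, hn, hDd, hW, hD0⟩ := count {p} {q}
  have hDQ : D Q = 0 := hD0 Q ⟨p, Finset.mem_singleton_self _, e, he⟩ ⟨q, Finset.mem_singleton_self _, f, hf⟩
  have hDQ' : D Q' = 0 := hD0 Q' ⟨p, Finset.mem_singleton_self _, e', he'⟩ ⟨q, Finset.mem_singleton_self _, f', hf'⟩
  set r : ℕ := if Q = Q' then 2 else 1 with hr
  have hrb : r ≤ e ∧ r ≤ e' ∧ r ≤ f ∧ r ≤ f' := by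
    have := pos_of_isOverWith he
    have := pos_of_isOverWith he'
    have := pos_of_isOverWith hf
    have := pos_of_isOverWith hf'
    rw [hr]; split_ifs with hQQ
    · exact hor.resolve_left (fun hn => hn hQQ)
    · omega
  let S : Submodule k K := (sameAt Q Q' (r : ℤ)).toSubmodule
  have h2n : 2 * n ≤ Module.finrank k ↥(_root_.FunFld.L D ⊓ S) := by
    refine hW _ inf_le_left (fun a ha hD => ⟨hD, ?_⟩) fun a y ha hy hD => ⟨hD, ?_⟩
    · exact algebraMap_mem_sameAt hfg₁ he he' hrb.1 hrb.2.1 (ha p (Finset.mem_singleton_self _))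
    · exact (sameAt Q Q' (r : ℤ)).mul_mem (algebraMap_mem_sameAt hfg₁ he he' hrb.1 hrb.2.1 (ha p (Finset.mem_singleton_self _)))
        (algebraMap_mem_sameAt hfg₂ hf hf' hrb.2.2.1 hrb.2.2.2 (hy q (Finset.mem_singleton_self _)))
  haveI := IsFG.finite_L hfg D
  -- a function that tells the two points apart
  set D₁ := D - Finsupp.single Q 1 with hD₁
  have hd1 : D₁.deg = D.deg - 1 := by rw [hD₁, deg_sub, deg_single, IsFG.deg_eq_one hfg]; simp
  have hd2 : (D₁ - Finsupp.single Q' 1).deg = D.deg - 2 := by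
    rw [deg_sub, hd1, deg_single, IsFG.deg_eq_one hfg]; push_cast; ring
  have hl1 := ell_eq_of_deg_ge hK (D := D₁) (by omega)
  have hl2 := ell_eq_of_deg_ge hK (D := D₁ - Finsupp.single Q' 1) (by omega)
  obtain ⟨z, hz, hzn⟩ : ∃ z ∈ _root_.FunFld.L D₁, z ∉ _root_.FunFld.L (D₁ - Finsupp.single Q' 1) := by
    by_contra hall
    push Not at hall
    have h : _root_.FunFld.L D₁ = _root_.FunFld.L (D₁ - Finsupp.single Q' 1) :=
      le_antisymm hall (L_mono (sub_le_self _ (Finsupp.single_nonneg.2 zero_le_one)))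
    simp only [ell] at hl1 hl2
    rw [h, hl2] at hl1
    omega
  have hzD : z ∈ _root_.FunFld.L D := L_mono (sub_le_self _ (Finsupp.single_nonneg.2 zero_le_one)) hz
  have hlt : Module.finrank k ↥(_root_.FunFld.L D ⊓ S) < ell D := by
    refine Submodule.finrank_lt_finrank_of_lt (inf_le_left.lt_of_ne fun heq => ?_)
    have hzS : z ∈ S := (heq.symm ▸ hzD : z ∈ _root_.FunFld.L D ⊓ S).2
    obtain ⟨c, hc, hc', -, -⟩ := hzS
    have hr1 : exp (-(r : ℤ)) ≤ exp (-1 : ℤ) := by
      rw [exp_le_exp]; rw [hr]; split_ifs <;> norm_num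
    have hzQ : val Q z ≤ exp (-1 : ℤ) := by
      have := hz Q
      rwa [hD₁, Finsupp.sub_apply, hDQ, Finsupp.single_eq_same, zero_sub] at this
    have hc0 : c = 0 := by
      by_contra hc0
      have h3 := ((val Q).map_sub _ _).trans (max_le hzQ (hc.trans hr1))
      rw [sub_sub_cancel, val_const Q hc0, ← exp_zero, exp_le_exp] at h3
      omega
    rw [hc0, map_zero, sub_zero] at hc'
    refine hzn fun R => ?_
    by_cases hR : R = Q'
    · subst hR
      refine hc'.trans (exp_le_exp.2 ?_)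
      rw [hD₁, Finsupp.sub_apply, Finsupp.sub_apply, hDQ', Finsupp.single_eq_same, hr]
      split_ifs with hQQ
      · subst hQQ; rw [Finsupp.single_eq_same]; norm_num
      · rw [Finsupp.single_eq_of_ne (Ne.symm hQQ)]; norm_num
    · have := hz R
      rwa [Finsupp.sub_apply, Finsupp.single_eq_of_ne hR, sub_zero]
  omega

end GrothLib.TwoCovers28
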