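import Groth.Agent.Lib.TwoCovers28.Field

/-!
# The quotients in the case of equality are hyperelliptic
-/

set_option autoImplicit false
set_option linter.style.haveILetI false
set_option linter.unusedSectionVars false
set_option maxHeartbeats 1600000
set_option synthInstance.maxHeartbeats 200000

namespace GrothLib.TwoCovers28

open _root_.FunFld IntermediateField WithZero
open GrothLib.FunFld

universe u

variable {k K : Type u} [Field k] [IsAlgClosed k] [Field K] [Algebra k K]

/-- Imposing general points. -/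
theorem exists_drop (h : IsFG k K) : ∀ (t : ℕ) (F : Divisor k K), t ≤ ell F →
    ∃ E : Divisor k K, 0 ≤ E ∧ E.deg = t ∧ ell (F - E) + t = ell F := by
  classical
  intro t
  induction t with
  | zero => exact fun F _ => ⟨0, le_rfl, by rw [deg_zero]; rfl, by simp⟩
  | succ t ih =>
    intro F ht
    obtain ⟨E, hE, hEd, hEl⟩ := ih F (by omega)
    haveI := IsFG.finite_L h (F - E)
    obtain ⟨f, hfE, hf0⟩ := Submodule.exists_mem_ne_zero_of_ne_bot (p := _root_.FunFld.L (F - E)) (by
      intro hb
      have : ell (F - E) = 0 := by rw [_root_.FunFld.ell, hb, finrank_bot]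
      omega)
    obtain ⟨P, -, hP⟩ := ((places_infinite h).sdiff (F - E + _root_.FunFld.div k f).support.finite_toSet).nonempty
    rw [Finset.mem_coe, Finsupp.notMem_support_iff, Finsupp.add_apply, h.div_apply] at hP
    refine ⟨E + Finsupp.single P 1, add_nonneg hE (Finsupp.single_nonneg.2 zero_le_one), ?_, ?_⟩
    · rw [deg_add, hEd, deg_single, IsFG.deg_eq_one h]; push_cast; ring
    · have hle : F - E - Finsupp.single P 1 ≤ F - E := sub_le_self _ (Finsupp.single_nonneg.2 zero_le_one)
      have h1 := IsFG.ell_sub_ell_le h hle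
      have hd1 : (F - E - Finsupp.single P 1).deg = (F - E).deg - 1 := by
        rw [deg_sub (F - E), deg_single, IsFG.deg_eq_one h]; simp
      rw [hd1] at h1
      have hlt : ell (F - E - Finsupp.single P 1) < ell (F - E) := by
        refine Submodule.finrank_lt_finrank_of_lt (lt_of_le_of_ne (L_mono hle) fun heq => ?_)
        have h2 : f ∈ _root_.FunFld.L (F - E - Finsupp.single P 1) := heq ▸ hfE
        have h3 := (mem_L_iff_ord hf0).1 h2 P
        rw [Finsupp.sub_apply, Finsupp.single_eq_same] at h3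
        omega
      rw [← sub_sub]
      omega

variable {K₁ K₂ : Type u} [Field K₁] [Field K₂] [Algebra k K₁] [Algebra k K₂] [Algebra K₁ K] [Algebra K₂ K]
  [IsScalarTower k K₁ K] [IsScalarTower k K₂ K] [FiniteDimensional K₁ K] [FiniteDimensional K₂ K]

/-- A function on the second quotient outside the first one bounds the genus. -/
theorem genus_le_of_function (hK : IsFunctionField k K) (h₁ : IsFunctionField k K₁) (h₂ : IsFunctionField k K₂)
    (d₁ : Module.finrank K₁ K = 2) (d₂ : Module.finrank K₂ K = 2) {B : Divisor k K₂} (hB : 0 ≤ B) {y : K₂}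
    (hy : y ∈ _root_.FunFld.L B) (hy₁ : ∀ a : K₁, algebraMap K₁ K a ≠ algebraMap K₂ K y) :
    (genus k K : ℤ) ≤ 2 * genus k K₁ + 2 * B.deg - 1 := by
  have hfg : IsFG k K := hK.1
  obtain ⟨p₀⟩ := IsFG.exists_place (h₁.1 : IsFG k K₁)
  set m : ℕ := genus k K + 2 * genus k K₁ + 1
  set A : Divisor k K₁ := Finsupp.single p₀ (m : ℤ) with hA
  have hA0 : 0 ≤ A := Finsupp.single_nonneg.2 (Int.natCast_nonneg m)
  have hAd : A.deg = m := by rw [hA, deg_single, IsFG.deg_eq_one (h₁.1 : IsFG k K₁)]; simp
  have hBd : 0 ≤ B.deg := deg_nonneg hB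
  have hdeg : (conorm K A + conorm K B).deg = 2 * (m : ℤ) + 2 * B.deg := by
    rw [deg_add, deg_conorm h₁.1, deg_conorm h₂.1, d₁, d₂, hAd]; push_cast; ring
  have hlA := ell_eq_of_deg_ge h₁ (D := A) (by rw [hAd]; omega)
  have hlD := ell_eq_of_deg_ge hK (D := conorm K A + conorm K B) (by rw [hdeg]; omega)
  haveI := IsFG.finite_L hfg (conorm K A + conorm K B)
  have hB' : 0 ≤ conorm K B := fun R => by
    obtain ⟨P, e, -, he⟩ := exists_isOverWith (K := K₂) R
    rw [conorm_apply h₂.1 he]; exact mul_nonneg (Int.natCast_nonneg e) (hB P)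
  have h : 2 * ell A ≤ ell (conorm K A + conorm K B) :=
    two_mul_ell_le_finrank h₁.1 hy₁ A (_root_.FunFld.L (conorm K A + conorm K B))
      (fun a ha => L_mono (le_add_of_nonneg_right hB') (algebraMap_mem_L_conorm h₁.1 ha)) fun a ha R => by
        show val R (algebraMap K₁ K a * algebraMap K₂ K y) ≤ _
        rw [map_mul, Finsupp.add_apply, exp_add]
        exact mul_le_mul' (algebraMap_mem_L_conorm h₁.1 ha R) (algebraMap_mem_L_conorm h₂.1 hy R)
  rw [hdeg] at hlD
  omega

/-- In the case of equality the quotient carries a pencil of degree two. -/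
theorem exists_pencil (hK : IsFunctionField k K) (h₁ : IsFunctionField k K₁) (h₂ : IsFunctionField k K₂)
    (d₁ : Module.finrank K₁ K = 2) (d₂ : Module.finrank K₂ K = 2)
    (hne : ¬ ∀ b : K₂, algebraMap K₂ K b ∈ Set.range (algebraMap K₁ K))
    (hg : 2 * genus k K₁ + 2 * genus k K₂ ≤ genus k K) (hpos : 1 ≤ genus k K₂) :
    ∃ B : Divisor k K₂, B.deg = 2 ∧ 2 ≤ ell B := by
  classical
  have hfg₂ : IsFG k K₂ := h₂.1
  obtain ⟨W, hW⟩ := exists_isCanonical h₂
  obtain ⟨hWl, hWd⟩ := ell_canonical h₂ hW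
  set γ := genus k K₂ with hγ
  rcases eq_or_lt_of_le hpos with h1 | hγ2
  · obtain ⟨P⟩ := IsFG.exists_place hfg₂
    have hd : (Finsupp.single P (2 : ℤ)).sum (fun Q n => n * (Q.deg : ℤ)) = 2 := by
      rw [← deg_eq_degHom, deg_single, IsFG.deg_eq_one hfg₂]; norm_num
    rw [← deg_eq_degHom] at hd
    refine ⟨Finsupp.single P (2 : ℤ), hd, ?_⟩
    have := ell_eq_of_deg_ge h₂ (D := Finsupp.single P (2 : ℤ)) (by rw [hd]; omega)
    rw [hd] at this
    omega
  by_contra hno
  push Not at hno
  -- all functions of small degree come from the intersection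
  let M : IntermediateField k K₂ := (IsScalarTower.toAlgHom k K₁ K).fieldRange.comap (IsScalarTower.toAlgHom k K₂ K)
  have hlow : ∀ B : Divisor k K₂, 0 ≤ B → B.deg ≤ γ → ∀ y ∈ _root_.FunFld.L B, y ∈ M := by
    intro B hB hBd y hy
    by_contra hyM
    have := genus_le_of_function hK h₁ h₂ d₁ d₂ hB hy fun a ha => hyM ⟨a, ha⟩
    omega
  have hMtop : M ≠ ⊤ := fun htop => hne fun b => by
    have : b ∈ M := htop ▸ trivial
    exact this
  -- a nonconstant function in the intersection
  obtain ⟨t, htM, htt⟩ : ∃ t ∈ M, Transcendental k t := by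
    obtain ⟨E, hE, hEd, hEl⟩ := exists_drop hfg₂ (γ - 2) W (by omega)
    obtain ⟨w, hw0, -, hw⟩ := IsFG.exists_of_ell_pos hfg₂ (D := W - E) (by omega)
    set B := W - E + _root_.FunFld.div k w with hB
    have hBd : B.deg = γ := by rw [hB, deg_add, deg_sub, hfg₂.deg_div, hWd, hEd]; omega
    have hBl : ell B = 2 := by rw [hB, IsFG.ell_add_div hfg₂ _ hw0]; omega
    haveI := IsFG.finite_L hfg₂ B
    by_contra hall
    push Not at hall
    have hle : _root_.FunFld.L B ≤ Submodule.span k {(1 : K₂)} := fun x hx => by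
      obtain ⟨c, hc⟩ := h₂.2 x (not_not.1 (hall x (hlow B hw hBd.le x hx)))
      rw [← hc, Algebra.algebraMap_eq_smul_one]
      exact Submodule.smul_mem _ _ (Submodule.mem_span_singleton_self _)
    have h9 : Module.finrank k (_root_.FunFld.L B) ≤ Module.finrank k (Submodule.span k {(1 : K₂)}) :=
      Submodule.finrank_mono hle
    rw [finrank_span_singleton one_ne_zero] at h9
    simp only [ell] at hBl
    omega
  obtain ⟨hMF, hMfin⟩ := isFunctionField_intermediateField h₂ M ⟨t, htM, htt⟩
  haveI := hMfin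
  have hMfg : IsFG k M := hMF.1
  have h2 : 2 ≤ Module.finrank M K₂ := by
    have hp : 0 < Module.finrank M K₂ := Module.finrank_pos
    by_contra hlt
    refine hMtop (eq_top_iff.2 fun w _ => ?_)
    obtain ⟨c, hc⟩ := (finrank_eq_one_iff_of_nonzero' (1 : K₂) one_ne_zero).1
      (by omega : Module.finrank M K₂ = 1) w
    rw [← hc, Algebra.smul_def, mul_one]
    exact c.2
  obtain ⟨p⟩ := IsFG.exists_place hMfg
  obtain ⟨hfin, hsum⟩ := sum_ramIdx (K' := K₂) hMfg p
  -- two points of one fibre
  obtain ⟨x, e, hxe, x', e', hxe', hor⟩ : ∃ x e, IsOverWith x p e ∧ ∃ x' e', IsOverWith x' p e' ∧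
      (x ≠ x' ∨ 2 ≤ e) := by
    have hs := hsum hfin.toFinset fun Q => hfin.mem_toFinset
    rw [IsFG.deg_eq_one hMfg, mul_one] at hs
    by_contra hno'
    push Not at hno'
    have hne' : hfin.toFinset.Nonempty := Finset.nonempty_iff_ne_empty.2 fun h0 => by
      rw [h0, Finset.sum_empty] at hs; omega
    obtain ⟨Q, hQ⟩ := hne'
    obtain ⟨e, he⟩ := hfin.mem_toFinset.1 hQ
    have hall : hfin.toFinset = {Q} := Finset.eq_singleton_iff_unique_mem.2 ⟨hQ, fun R hR => by
      obtain ⟨e', he'⟩ := hfin.mem_toFinset.1 hR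
      exact (hno' Q e he R e' he').1.symm⟩
    rw [hall, Finset.sum_singleton, IsFG.deg_eq_one hfg₂, mul_one, ramIdx_eq he] at hs
    have := (hno' Q e he Q e he).2
    omega
  set X2 : Divisor k K₂ := Finsupp.single x 1 + Finsupp.single x' 1 with hX2
  have hX2d : X2.deg = 2 := by rw [hX2, deg_add, deg_single, deg_single, IsFG.deg_eq_one hfg₂, IsFG.deg_eq_one hfg₂]; norm_num
  have hlX := hno X2 hX2d
  have hrr := riemann_roch' h₂ hW X2
  have hX2one : 1 ≤ ell X2 := by
    haveI := IsFG.finite_L hfg₂ X2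
    have hmem : (1 : K₂) ∈ _root_.FunFld.L X2 := (mem_L_iff_ord one_ne_zero).2 fun P => by
      rw [ord_one]
      have : (0 : ℤ) ≤ X2 P := (add_nonneg (Finsupp.single_nonneg.2 zero_le_one) (Finsupp.single_nonneg.2 zero_le_one) : 0 ≤ X2) P
      omega
    exact Submodule.one_le_finrank_iff.2 fun hb => one_ne_zero ((Submodule.mem_bot k).1 (hb ▸ hmem))
  obtain ⟨E, hE, hEd, hEl⟩ := exists_drop hfg₂ (γ - 2) (W - X2) (by omega)
  have hX2l : (ell (W - X2) : ℤ) ≤ γ - 2 := by omega
  have hzero : ell (W - X2 - E) = 0 := by omega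
  have hle1 : W - E - Finsupp.single x 1 ≤ W - E := sub_le_self _ (Finsupp.single_nonneg.2 zero_le_one)
  have hle2 : W - X2 - E ≤ W - E - Finsupp.single x 1 := by
    intro R
    have : (0 : ℤ) ≤ (Finsupp.single x' 1 : Divisor k K₂) R := (Finsupp.single_nonneg.2 zero_le_one : (0 : Divisor k K₂) ≤ Finsupp.single x' 1) R
    simp only [hX2, Finsupp.sub_apply, Finsupp.add_apply]
    omega
  have hb1 := IsFG.ell_sub_ell_le hfg₂ hle2
  have hb2 := IsFG.ell_sub_ell_le hfg₂ hle1
  have hrrE := riemann_roch' h₂ hW E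
  have hdx : (W - E - Finsupp.single x 1).deg = (W - E).deg - 1 := by
    rw [deg_sub (W - E), deg_single, IsFG.deg_eq_one hfg₂]; simp
  have hdX : (W - X2 - E).deg = (W - E).deg - 2 := by rw [deg_sub, deg_sub, deg_sub, hX2d]; ring
  have hEl1 : 1 ≤ ell E := by
    haveI := IsFG.finite_L hfg₂ E
    have hmem : (1 : K₂) ∈ _root_.FunFld.L E := (mem_L_iff_ord one_ne_zero).2 fun P => by
      rw [ord_one]; have : (0 : ℤ) ≤ E P := hE P; omega
    exact Submodule.one_le_finrank_iff.2 fun hb => one_ne_zero ((Submodule.mem_bot k).1 (hb ▸ hmem))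
  rw [hdx] at hb2
  rw [hdX, hdx] at hb1
  -- the member of the pencil through `x`
  obtain ⟨w, hw0, -, hw⟩ := IsFG.exists_of_ell_pos hfg₂ (D := W - E - Finsupp.single x 1) (by omega)
  set B := W - E + _root_.FunFld.div k w with hB
  have hBl : ell B = ell (W - E) := IsFG.ell_add_div hfg₂ _ hw0
  have hBlx : ell (B - Finsupp.single x 1) = ell (W - E - Finsupp.single x 1) := by
    rw [show B - Finsupp.single x 1 = W - E - Finsupp.single x 1 + _root_.FunFld.div k w by rw [hB]; abel]
    exact IsFG.ell_add_div hfg₂ _ hw0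
  have hB0 : ∀ R, (Finsupp.single x 1 : Divisor k K₂) R ≤ B R := fun R => by
    have := hw R
    simp only [hB, Finsupp.add_apply, Finsupp.sub_apply, Finsupp.zero_apply] at this ⊢
    omega
  have hBnonneg : 0 ≤ B := fun R => le_trans ((Finsupp.single_nonneg.2 zero_le_one : (0 : Divisor k K₂) ≤ Finsupp.single x 1) R) (hB0 R)
  obtain ⟨y, hyB, hyn⟩ : ∃ y ∈ _root_.FunFld.L B, y ∉ _root_.FunFld.L (B - Finsupp.single x 1) := by
    by_contra hall
    push Not at hall
    have h : _root_.FunFld.L B = _root_.FunFld.L (B - Finsupp.single x 1) :=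
      le_antisymm hall (L_mono (sub_le_self _ (Finsupp.single_nonneg.2 zero_le_one)))
    have : ell B = ell (B - Finsupp.single x 1) := by rw [ell, ell, h]
    omega
  have hBd : B.deg ≤ γ := by rw [hB, deg_add, deg_sub, hfg₂.deg_div, hWd, hEd]; omega
  have hyM := hlow B hBnonneg hBd y hyB
  have hy0 : y ≠ 0 := fun h => hyn (h ▸ zero_mem _)
  have hyB' := (mem_L_iff_ord hy0).1 hyB
  have hneg : x.ord y < 0 := by
    by_contra hge
    push Not at hge
    refine hyn ((mem_L_iff_ord hy0).2 fun R => ?_)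
    by_cases hR : R = x
    · subst hR
      have := hB0 R
      rw [Finsupp.single_eq_same] at this
      rw [Finsupp.sub_apply, Finsupp.single_eq_same]
      omega
    · rw [Finsupp.sub_apply, Finsupp.single_eq_of_ne hR]
      have := hyB' R
      omega
  set m : M := ⟨y, hyM⟩
  have hox : x.ord y = e * p.ord m := ord_of_isOverWith hxe m
  have hox' : x'.ord y = e' * p.ord m := ord_of_isOverWith hxe' m
  have he0 : (0 : ℤ) < e := by exact_mod_cast pos_of_isOverWith hxe
  have he0' : (0 : ℤ) < e' := by exact_mod_cast pos_of_isOverWith hxe'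
  have hp : p.ord m ≤ -1 := by
    by_contra hh
    push Not at hh
    rw [hox] at hneg
    nlinarith
  have hcov : X2 ≤ B := by
    intro R
    have h1 := hyB' R
    by_cases hxx : x = x'
    · subst hxx
      rw [hX2, Finsupp.add_apply]
      by_cases hR : R = x
      · subst hR
        have he2 : (2 : ℤ) ≤ e := by exact_mod_cast hor.resolve_left (fun h => h rfl)
        rw [Finsupp.single_eq_same]
        rw [hox] at h1
        nlinarith
      · rw [Finsupp.single_eq_of_ne hR, add_zero]; exact hBnonneg R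
    · rw [hX2, Finsupp.add_apply]
      by_cases hR : R = x
      · subst hR
        rw [Finsupp.single_eq_same, Finsupp.single_eq_of_ne hxx, add_zero]
        rw [hox] at h1
        nlinarith
      · rw [Finsupp.single_eq_of_ne hR, zero_add]
        by_cases hR' : R = x'
        · subst hR'
          rw [Finsupp.single_eq_same]
          rw [hox'] at h1
          nlinarith
        · rw [Finsupp.single_eq_of_ne hR']; exact hBnonneg R
  have hfinal : 1 ≤ ell (B - X2) := by
    haveI := IsFG.finite_L hfg₂ (B - X2)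
    have hmem : (1 : K₂) ∈ _root_.FunFld.L (B - X2) := (mem_L_iff_ord one_ne_zero).2 fun P => by
      rw [ord_one, Finsupp.sub_apply]; have : X2 P ≤ B P := hcov P; omega
    exact Submodule.one_le_finrank_iff.2 fun hb => one_ne_zero ((Submodule.mem_bot k).1 (hb ▸ hmem))
  rw [show B - X2 = W - X2 - E + _root_.FunFld.div k w by rw [hB]; abel, IsFG.ell_add_div hfg₂ _ hw0, hzero] at hfinal
  omega

end GrothLib.TwoCovers28
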