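import Groth.Agent.Lib.TwoCovers28.Field
import Groth.Agent.Lib.KummerCov28.Main
import Groth.Agent.Lib.QuadSubfield28.Sch
import Groth.Agent.Lib.UnramLoc9.Field

/-!
# Two double covers define a closed immersion into the product
-/

set_option autoImplicit false
set_option maxHeartbeats 1600000
set_option linter.style.haveILetI false
set_option backward.isDefEq.respectTransparency false

universe u

open CategoryTheory CategoryTheory.Limits AlgebraicGeometry TopologicalSpace
open GrothLib GrothLib.CurveRR GrothLib.CurveMult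

noncomputable section

namespace GrothLib.TwoCovers28

/-- Points with values in a field, followed by a morphism. -/
theorem residueFieldMap_comp_eq {X Y : Scheme.{u}} (f : X ⟶ Y) {Ω : Type u} [Field Ω] {x : X}
    (α β : X.residueField x ⟶ CommRingCat.of Ω)
    (h : (Spec.map α ≫ X.fromSpecResidueField x) ≫ f = (Spec.map β ≫ X.fromSpecResidueField x) ≫ f) :
    f.residueFieldMap x ≫ α = f.residueFieldMap x ≫ β := by
  rw [Category.assoc, Category.assoc, ← Scheme.Hom.SpecMap_residueFieldMap_fromSpecResidueField,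
    ← Category.assoc, ← Category.assoc, ← Spec.map_comp, ← Spec.map_comp] at h
  have h' : (Scheme.SpecToEquivOfField Ω Y).symm ⟨f x, f.residueFieldMap x ≫ α⟩ =
      (Scheme.SpecToEquivOfField Ω Y).symm ⟨f x, f.residueFieldMap x ≫ β⟩ := h
  exact eq_of_heq (Sigma.mk.inj_iff.1 ((Scheme.SpecToEquivOfField Ω Y).symm.injective h')).2

theorem stalk_agree {X Y : Scheme.{u}} (f : X ⟶ Y) {Ω : Type u} [Field Ω] {x : X}
    {α β : X.residueField x ⟶ CommRingCat.of Ω} (h : f.residueFieldMap x ≫ α = f.residueFieldMap x ≫ β)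
    (r : Y.presheaf.stalk (f x)) :
    α.hom ((X.residue x).hom ((f.stalkMap x).hom r)) = β.hom ((X.residue x).hom ((f.stalkMap x).hom r)) := by
  have h1 : (f.residueFieldMap x).hom ((Y.residue (f x)).hom r) = (X.residue x).hom ((f.stalkMap x).hom r) :=
    ConcreteCategory.congr_hom (Scheme.residue_residueFieldMap f x) r
  rw [← h1]
  exact ConcreteCategory.congr_hom h ((Y.residue (f x)).hom r)

variable (k : Type u) [Field k] [IsAlgClosed k] {X P₁ P₂ : Scheme.{u}} [IsIntegral X] [IsIntegral P₁] [IsIntegral P₂]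
  [X.Over (Spec (CommRingCat.of k))] [P₁.Over (Spec (CommRingCat.of k))] [P₂.Over (Spec (CommRingCat.of k))]
  [IsProper (X ↘ Spec (CommRingCat.of k))] [IsProper (P₁ ↘ Spec (CommRingCat.of k))]
  [IsProper (P₂ ↘ Spec (CommRingCat.of k))] [RegCurve X] [RegCurve P₁] [RegCurve P₂]

theorem range_and_finrank (f : X ⟶ P₁) (hf : f ≫ (P₁ ↘ Spec (CommRingCat.of k)) = X ↘ Spec (CommRingCat.of k))
    [IsFinite f] [Flat f] (hr : ∀ y : P₁, Scheme.Hom.finrank f y = 2) :
    ∃ e : f (genericPoint X) = genericPoint P₁,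
      (letI := (Hurwitz.ψ e).toAlgebra; Module.finrank P₁.functionField X.functionField = 2) := by
  haveI := Euler.isNoetherian_of_proper (X := P₁) k
  haveI := Euler.isNoetherian_of_proper (X := X) k
  haveI : LocallyOfFinitePresentation f := inferInstance
  haveI : Surjective f := f.one_le_finrank_iff_surjective.1 fun y => by
    show 1 ≤ f.finrank y
    rw [hr]; norm_num
  have e := GrothLib.HodgeProper12.genericPoint_eq_of_surjective f f.surjective
  refine ⟨e, ?_⟩
  rw [QuadSubfield28.finrank_ψ f e]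
  exact ((generic_finite_flat f e).1 (genericPoint P₁)).symm.trans (hr _)

theorem not_forall_mem_range {f₁ : X ⟶ P₁} {f₂ : X ⟶ P₂}
    (hf₁ : f₁ ≫ (P₁ ↘ Spec (CommRingCat.of k)) = X ↘ Spec (CommRingCat.of k))
    (hf₂ : f₂ ≫ (P₂ ↘ Spec (CommRingCat.of k)) = X ↘ Spec (CommRingCat.of k))
    (e₁ : f₁ (genericPoint X) = genericPoint P₁) (e₂ : f₂ (genericPoint X) = genericPoint P₂)
    (d₁ : letI := (Hurwitz.ψ e₁).toAlgebra; Module.finrank P₁.functionField X.functionField = 2)
    (d₂ : letI := (Hurwitz.ψ e₂).toAlgebra; Module.finrank P₂.functionField X.functionField = 2)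
    (hne : ¬ ∃ e : P₁ ≅ P₂, e.hom ≫ (P₂ ↘ Spec (CommRingCat.of k)) = (P₁ ↘ Spec (CommRingCat.of k)) ∧ f₁ ≫ e.hom = f₂) :
    ¬ ∀ b : P₂.functionField, Hurwitz.ψ e₂ b ∈ Set.range (Hurwitz.ψ e₁) := by
  haveI := Euler.isNoetherian_of_proper (X := X) k
  letI := (Hurwitz.ψ e₁).toAlgebra
  letI := (Hurwitz.ψ e₂).toAlgebra
  haveI : IsScalarTower k P₁.functionField X.functionField :=
    .of_algebraMap_eq fun c => (Hurwitz.ψ_algebraMap k e₁ hf₁ c).symm
  haveI : IsScalarTower k P₂.functionField X.functionField :=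
    .of_algebraMap_eq fun c => (Hurwitz.ψ_algebraMap k e₂ hf₂ c).symm
  intro hall
  apply hne
  let i₁ := IsScalarTower.toAlgHom k P₁.functionField X.functionField
  let i₂ := IsScalarTower.toAlgHom k P₂.functionField X.functionField
  have hle : i₂.fieldRange ≤ i₁.fieldRange := by
    rintro _ ⟨b, rfl⟩
    exact hall b
  have hfr : ∀ {L : Type u} [Field L] [Algebra k L] [Algebra L X.functionField] [IsScalarTower k L X.functionField],
      Module.finrank L X.functionField = 2 →
      Module.finrank (IsScalarTower.toAlgHom k L X.functionField).fieldRange X.functionField = 2 := by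
    intro L _ _ _ _ hd
    rw [← hd]
    exact (Algebra.finrank_eq_of_equiv_equiv (AlgEquiv.ofInjectiveField _).toRingEquiv (RingEquiv.refl _)
      (RingHom.ext fun _ => rfl)).symm
  haveI : FiniteDimensional i₂.fieldRange X.functionField := Module.finite_of_finrank_pos (by rw [hfr d₂]; norm_num)
  have heq : i₂.fieldRange = i₁.fieldRange :=
    IntermediateField.eq_of_le_of_finrank_le' hle (by rw [hfr d₂, hfr d₁])
  let σ : P₂.functionField ≃ₐ[k] P₁.functionField :=
    (AlgEquiv.ofInjectiveField i₂).trans ((IntermediateField.equivOfEq heq).trans (AlgEquiv.ofInjectiveField i₁).symm)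
  obtain ⟨g, hg', eg, hψ⟩ := FFHom.exists_iso k (X := P₁) (Y := P₂) σ.toRingEquiv σ.commutes
  refine ⟨g, hg', FFHom.hom_ext (P₂ ↘ Spec (CommRingCat.of k)) (by rw [Category.assoc, hg', hf₁, hf₂]) ?_⟩
  rw [← Category.assoc, FFHom.fromSpecStalk_comp_eq e₁, Category.assoc, FFHom.fromSpecStalk_comp_eq eg,
    ← Category.assoc, ← Spec.map_comp, FFHom.fromSpecStalk_comp_eq e₂]
  congr 2
  rw [hψ]
  refine CommRingCat.hom_ext (RingHom.ext fun z => ?_)
  show i₁ (σ z) = i₂ z
  have hv : ∀ w, ((AlgEquiv.ofInjectiveField i₁ w : i₁.fieldRange) : X.functionField) = i₁ w := fun _ => rfl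
  rw [← hv]
  refine (congrArg Subtype.val (AlgEquiv.apply_symm_apply (AlgEquiv.ofInjectiveField i₁) _)).trans ?_
  rfl

theorem main (hg : ∀ a b : ℕ, a ≤ Curv2.genus k P₁ → b ≤ Curv2.genus k P₂ → 2 * a + 2 * b < Curv2.genus k X)
    (f₁ : X ⟶ P₁) (hf₁ : f₁ ≫ (P₁ ↘ Spec (CommRingCat.of k)) = X ↘ Spec (CommRingCat.of k))
    [IsFinite f₁] [Flat f₁] (hr₁ : ∀ y : P₁, Scheme.Hom.finrank f₁ y = 2)
    (f₂ : X ⟶ P₂) (hf₂ : f₂ ≫ (P₂ ↘ Spec (CommRingCat.of k)) = X ↘ Spec (CommRingCat.of k))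
    [IsFinite f₂] [Flat f₂] (hr₂ : ∀ y : P₂, Scheme.Hom.finrank f₂ y = 2)
    (hne : ¬ ∃ e : P₁ ≅ P₂, e.hom ≫ (P₂ ↘ Spec (CommRingCat.of k)) = (P₁ ↘ Spec (CommRingCat.of k)) ∧ f₁ ≫ e.hom = f₂) :
    Curv2.genus k X ≤ 2 * Curv2.genus k P₁ + 2 * Curv2.genus k P₂ + 1 ∧
      IsClosedImmersion (pullback.lift f₁ f₂ (hf₁.trans hf₂.symm) :
        X ⟶ pullback (P₁ ↘ Spec (CommRingCat.of k)) (P₂ ↘ Spec (CommRingCat.of k))) := by
  classical
  haveI := Euler.isNoetherian_of_proper (X := X) k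
  obtain ⟨e₁, d₁⟩ := range_and_finrank k f₁ hf₁ hr₁
  obtain ⟨e₂, d₂⟩ := range_and_finrank k f₂ hf₂ hr₂
  letI := (Hurwitz.ψ e₁).toAlgebra
  letI := (Hurwitz.ψ e₂).toAlgebra
  haveI : IsScalarTower k P₁.functionField X.functionField :=
    .of_algebraMap_eq fun c => (Hurwitz.ψ_algebraMap k e₁ hf₁ c).symm
  haveI : IsScalarTower k P₂.functionField X.functionField :=
    .of_algebraMap_eq fun c => (Hurwitz.ψ_algebraMap k e₂ hf₂ c).symm
  haveI : FiniteDimensional P₁.functionField X.functionField := Module.finite_of_finrank_pos (by omega)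
  haveI : FiniteDimensional P₂.functionField X.functionField := Module.finite_of_finrank_pos (by omega)
  have hKX := CurveRR.isFunctionField k (finrank_H0_structure_eq_one k (X := X))
  have hK₁ := CurveRR.isFunctionField k (finrank_H0_structure_eq_one k (X := P₁))
  have hK₂ := CurveRR.isFunctionField k (finrank_H0_structure_eq_one k (X := P₂))
  -- the subfields differ
  have hsub : ¬ ∀ b : P₂.functionField, algebraMap P₂.functionField X.functionField b ∈
      Set.range (algebraMap P₁.functionField X.functionField) :=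
    not_forall_mem_range k hf₁ hf₂ e₁ e₂ d₁ d₂ hne
  obtain ⟨hbound, hsep⟩ := genus_bound hKX hK₁ hK₂ d₁ d₂ hsub
  rw [← CurveRR.genus_eq k (finrank_H0_structure_eq_one k (X := X)),
    ← CurveRR.genus_eq k (finrank_H0_structure_eq_one k (X := P₁)),
    ← CurveRR.genus_eq k (finrank_H0_structure_eq_one k (X := P₂))] at hbound hsep
  refine ⟨hbound, ?_⟩
  have hcon : ¬ Curv2.genus k X ≤ 2 * Curv2.genus k P₁ + 2 * Curv2.genus k P₂ := not_le.2 (hg _ _ le_rfl le_rfl)
  set Φ : X ⟶ pullback (P₁ ↘ Spec (CommRingCat.of k)) (P₂ ↘ Spec (CommRingCat.of k)) :=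
    pullback.lift f₁ f₂ (hf₁.trans hf₂.symm)
  have hΦ₁ : Φ ≫ pullback.fst _ _ = f₁ := pullback.lift_fst _ _ _
  have hΦ₂ : Φ ≫ pullback.snd _ _ = f₂ := pullback.lift_snd _ _ _
  haveI : IsProper (Φ ≫ pullback.fst (P₁ ↘ Spec (CommRingCat.of k)) (P₂ ↘ Spec (CommRingCat.of k))) := by
    rw [hΦ₁]; infer_instance
  haveI : IsProper Φ := IsProper.of_comp Φ (pullback.fst (P₁ ↘ Spec (CommRingCat.of k)) (P₂ ↘ Spec (CommRingCat.of k)))
  let p₁ : CP X → CP P₁ := fun x => ⟨f₁ x.1, Hurwitz.ne_genericPoint x.2⟩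
  let p₂ : CP X → CP P₂ := fun x => ⟨f₂ x.1, Hurwitz.ne_genericPoint x.2⟩
  have hpt : ∀ x x' : CP X, p₁ x = p₁ x' → p₂ x = p₂ x' → x = x' := by
    intro x x' h1 h2
    by_contra hxx
    have o1 : _root_.FunFld.IsOverWith (place k x') (place k (p₁ x)) (Hurwitz.ramIdxAt (f := f₁) x'.1) := by
      rw [h1]; exact Hurwitz.isOverWith_place k e₁ hf₁ x'
    have o2 : _root_.FunFld.IsOverWith (place k x') (place k (p₂ x)) (Hurwitz.ramIdxAt (f := f₂) x'.1) := by
      rw [h2]; exact Hurwitz.isOverWith_place k e₂ hf₂ x'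
    refine hcon (hsep (place k x) (place k x') (place k (p₁ x)) (place k (p₂ x)) _ _ _ _
      (Hurwitz.isOverWith_place k e₁ hf₁ x) o1
      (Hurwitz.isOverWith_place k e₂ hf₂ x) o2 (Or.inl ?_))
    exact fun e => hxx (place_injective (k := k) e)
  have hunr : ∀ x : CP X, ∃ U : X.Opens, x.1 ∈ U ∧ FormallyUnramified (U.ι ≫ Φ) := by
    intro x
    have hpos₁ := FunFld.pos_of_isOverWith (Hurwitz.isOverWith_place k e₁ hf₁ x)
    have hpos₂ := FunFld.pos_of_isOverWith (Hurwitz.isOverWith_place k e₂ hf₂ x)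
    have hone : Hurwitz.ramIdxAt (f := f₁) x.1 = 1 ∨ Hurwitz.ramIdxAt (f := f₂) x.1 = 1 := by
      by_contra hno
      push Not at hno
      exact hcon (hsep (place k x) (place k x) _ _ _ _ _ _
        (Hurwitz.isOverWith_place k e₁ hf₁ x) (Hurwitz.isOverWith_place k e₁ hf₁ x)
        (Hurwitz.isOverWith_place k e₂ hf₂ x) (Hurwitz.isOverWith_place k e₂ hf₂ x)
        (Or.inr ⟨by omega, by omega, by omega, by omega⟩))
    rcases hone with h | h
    · obtain ⟨U, hxU, hU⟩ := (LocProp.formallyUnramified_nhd_iff f₁ x.1).2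
        (KummerCov28.formallyUnramified_stalk k e₁ hf₁ x h)
      haveI : FormallyUnramified ((U.ι ≫ Φ) ≫ pullback.fst (P₁ ↘ Spec (CommRingCat.of k)) (P₂ ↘ Spec (CommRingCat.of k))) := by
        rw [Category.assoc, hΦ₁]; exact hU
      exact ⟨U, hxU, FormallyUnramified.of_comp (U.ι ≫ Φ) (pullback.fst (P₁ ↘ Spec (CommRingCat.of k)) (P₂ ↘ Spec (CommRingCat.of k)))⟩
    · obtain ⟨U, hxU, hU⟩ := (LocProp.formallyUnramified_nhd_iff f₂ x.1).2
        (KummerCov28.formallyUnramified_stalk k e₂ hf₂ x h)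
      haveI : FormallyUnramified ((U.ι ≫ Φ) ≫ pullback.snd (P₁ ↘ Spec (CommRingCat.of k)) (P₂ ↘ Spec (CommRingCat.of k))) := by
        rw [Category.assoc, hΦ₂]; exact hU
      exact ⟨U, hxU, FormallyUnramified.of_comp (U.ι ≫ Φ) (pullback.snd (P₁ ↘ Spec (CommRingCat.of k)) (P₂ ↘ Spec (CommRingCat.of k)))⟩
  haveI : FormallyUnramified Φ := UnramLoc9.formallyUnramified_of_forall_nhd Φ fun x => by
    by_cases hx : x = genericPoint X
    · obtain ⟨P⟩ := FunFld.IsFG.exists_place (isFG k (X := X))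
      obtain ⟨z, -⟩ := place_surjective (k := k) (X := X) P
      obtain ⟨U, hzU, hU⟩ := hunr z
      exact ⟨U, hx ▸ ((genericPoint_spec X).specializes trivial).mem_open U.isOpen hzU, hU⟩
    · exact hunr ⟨x, hx⟩
  refine UnramLoc9.isClosedImmersion_of_injective Φ fun Ω _ _ g g' hgg => ?_
  obtain ⟨⟨x, α⟩, rfl⟩ := (Scheme.SpecToEquivOfField Ω X).symm.surjective g
  obtain ⟨⟨x', β⟩, rfl⟩ := (Scheme.SpecToEquivOfField Ω X).symm.surjective g'
  change (Spec.map α ≫ X.fromSpecResidueField x) ≫ Φ = (Spec.map β ≫ X.fromSpecResidueField x') ≫ Φ at hgg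
  have h₁ : (Spec.map α ≫ X.fromSpecResidueField x) ≫ f₁ = (Spec.map β ≫ X.fromSpecResidueField x') ≫ f₁ := by
    rw [← hΦ₁, ← Category.assoc, hgg, Category.assoc]
  have h₂ : (Spec.map α ≫ X.fromSpecResidueField x) ≫ f₂ = (Spec.map β ≫ X.fromSpecResidueField x') ≫ f₂ := by
    rw [← hΦ₂, ← Category.assoc, hgg, Category.assoc]
  have hx₁ : f₁ x = f₁ x' := by
    have := congrArg (fun φ : Spec (CommRingCat.of Ω) ⟶ P₁ => φ (IsLocalRing.closedPoint Ω)) h₁
    simpa [Scheme.fromSpecResidueField_apply] using this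
  have hx₂ : f₂ x = f₂ x' := by
    have := congrArg (fun φ : Spec (CommRingCat.of Ω) ⟶ P₂ => φ (IsLocalRing.closedPoint Ω)) h₂
    simpa [Scheme.fromSpecResidueField_apply] using this
  obtain rfl : x = x' := by
    by_cases hx : x = genericPoint X <;> by_cases hx' : x' = genericPoint X
    · rw [hx, hx']
    · exact absurd (hx₁.symm.trans (hx ▸ e₁)) (Hurwitz.ne_genericPoint hx')
    · exact absurd (hx₁.trans (hx' ▸ e₁)) (Hurwitz.ne_genericPoint hx)
    · exact congrArg Subtype.val (hpt ⟨x, hx⟩ ⟨x', hx'⟩ (Subtype.ext hx₁) (Subtype.ext hx₂))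
  suffices α = β by rw [this]
  have hs₁ := stalk_agree f₁ (residueFieldMap_comp_eq f₁ α β h₁)
  have hs₂ := stalk_agree f₂ (residueFieldMap_comp_eq f₂ α β h₂)
  refine CommRingCat.hom_ext (RingHom.ext fun w => ?_)
  obtain ⟨r, rfl⟩ := X.residue_surjective x w
  by_cases hx : x = genericPoint X
  · subst hx
    let R : X.functionField →+* X.residueField (genericPoint X) := (X.residue (genericPoint X)).hom
    have hA : ∀ a : P₁.functionField, α.hom (R (Hurwitz.ψ e₁ a)) = β.hom (R (Hurwitz.ψ e₁ a)) := fun a =>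
      hs₁ ((P₁.presheaf.stalkSpecializes (specializes_of_eq e₁)).hom a)
    have hB : ∀ a : P₂.functionField, α.hom (R (Hurwitz.ψ e₂ a)) = β.hom (R (Hurwitz.ψ e₂ a)) := fun a =>
      hs₂ ((P₂.presheaf.stalkSpecializes (specializes_of_eq e₂)).hom a)
    obtain ⟨y, hy⟩ := not_forall.1 hsub
    have hli : LinearIndependent P₁.functionField
        ![(1 : X.functionField), algebraMap P₂.functionField X.functionField y] := by
      refine (LinearIndependent.pair_iff' one_ne_zero).2 fun a ha => hy ⟨a, ?_⟩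
      rwa [Algebra.smul_def, mul_one] at ha
    have hmem : (r : X.functionField) ∈ Submodule.span P₁.functionField
        (Set.range ![(1 : X.functionField), algebraMap P₂.functionField X.functionField y]) := by
      rw [hli.span_eq_top_of_card_eq_finrank (by rw [Fintype.card_fin, d₁])]
      exact Submodule.mem_top
    obtain ⟨c, hc⟩ := (Submodule.mem_span_range_iff_exists_fun P₁.functionField).1 hmem
    rw [Fin.sum_univ_two] at hc
    simp only [Matrix.cons_val_zero, Matrix.cons_val_one, Algebra.smul_def, mul_one] at hc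
    show α.hom (R r) = β.hom (R r)
    rw [← hc]
    simp only [map_add, map_mul]
    rw [show α.hom (R (algebraMap P₁.functionField X.functionField (c 0))) = _ from hA (c 0),
      show α.hom (R (algebraMap P₁.functionField X.functionField (c 1))) = _ from hA (c 1),
      show α.hom (R (algebraMap P₂.functionField X.functionField y)) = _ from hB y]
    rfl
  · letI := Curv2.resAlgebra k X x
    have hone : Module.finrank k (X.residueField x) = 1 := by
      rw [Hurwitz.finrank_residueField (k := k) (⟨x, hx⟩ : CP X)]; exact deg_place_eq_one k _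
    obtain ⟨c, hc⟩ := (finrank_eq_one_iff_of_nonzero' (1 : X.residueField x) one_ne_zero).1 hone
      ((X.residue x).hom r)
    have hc' : (X.residue x).hom r = (X.residue x).hom (cst k x c) := by
      rw [← hc, Algebra.smul_def, mul_one]; rfl
    show α.hom ((X.residue x).hom r) = β.hom ((X.residue x).hom r)
    rw [hc', ← Hurwitz.cst_compat k hf₁]
    exact hs₁ (cst k (f₁ x) c)

end GrothLib.TwoCovers28
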